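import Cfsg.Agent.U62Three.C.Code.Defs

/-!
# Words for the reductions
-/

set_option autoImplicit false
set_option maxRecDepth 100000

namespace Cfsg.Agent.U62Three.C.Code

/-- For each vector of `units0` a word fixing the first plane and moving it to `4`. -/
def unitWords : List (List ℕ) :=
  [
    [],
    [0, 0],
    [0],
    [7, 7, 0, 0],
    [7, 7, 0],
    [7, 7],
    [6, 6, 0, 0],
    [7, 7, 4],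
    [2, 1, 4, 3],
    [1, 4, 3, 1],
    [1, 1, 4, 1],
    [1, 4, 3, 2],
    [4, 0],
    [2, 4, 3, 3],
    [6, 6, 4],
    [1, 1, 4, 2],
    [6, 6, 0],
    [2, 2, 4, 2],
    [2, 4, 2, 1],
    [4, 2, 1, 1],
    [2, 4, 2, 2],
    [4, 6, 6, 0],
    [1, 1, 4, 3],
    [4],
    [2, 2, 4, 1],
    [2, 4, 1, 1],
    [6, 6],
    [1, 4, 1, 1],
    [4, 0, 0],
    [2, 1, 4, 1],
    [6, 6, 4, 0],
    [2, 1, 4, 2],
    [1, 4, 2, 1],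
    [2, 2, 4, 3],
    [2, 4, 3, 1],
    [4, 6, 6]]

/-- For each vector of value one a word fixing `1` moving it to a representative, and the inverse word. -/
def redWords : List (List ℕ × List ℕ) :=
  [
    ([], []),
    ([], []),
    ([], []),
    ([], []),
    ([0, 0], [0]),
    ([0], [0, 0]),
    ([7, 7, 0, 0], [7, 7, 0]),
    ([], []),
    ([], []),
    ([], []),
    ([3, 3, 1], [3, 1, 1]),
    ([3, 3, 1], [3, 1, 1]),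
    ([3, 3, 1], [3, 1, 1]),
    ([4], [4, 4, 4]),
    ([4], [4, 4, 4]),
    ([4], [4, 4, 4]),
    ([7, 7, 0], [7, 7, 0, 0]),
    ([4, 0, 0], [4, 4, 4, 0]),
    ([4, 0, 0], [4, 4, 4, 0]),
    ([4, 0, 0], [4, 4, 4, 0]),
    ([0, 0], [0]),
    ([0, 0], [0]),
    ([0, 0], [0]),
    ([2, 1, 1], [2, 2, 1]),
    ([2, 1, 1], [2, 2, 1]),
    ([2, 1, 1], [2, 2, 1]),
    ([7, 7], [7, 7]),
    ([3, 2, 2], [3, 3, 2]),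
    ([3, 2, 2], [3, 3, 2]),
    ([3, 2, 2], [3, 3, 2]),
    ([4, 0], [4, 4, 4, 0, 0]),
    ([4, 0], [4, 4, 4, 0, 0]),
    ([4, 0], [4, 4, 4, 0, 0]),
    ([0], [0, 0]),
    ([0], [0, 0]),
    ([0], [0, 0]),
    ([6, 6, 0, 0], [6, 6, 0]),
    ([2, 4, 1, 1], [3, 3, 4, 2, 4]),
    ([2, 4, 1, 1], [3, 3, 4, 2, 4]),
    ([2, 4, 1, 1], [3, 3, 4, 2, 4]),
    ([4, 4, 0, 0], [4, 4, 0]),
    ([4, 4, 0, 0], [4, 4, 0]),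
    ([4, 4, 0, 0], [4, 4, 0]),
    ([2, 4, 2, 1], [2, 7, 6, 7, 6]),
    ([2, 4, 2, 1], [2, 7, 6, 7, 6]),
    ([2, 4, 2, 1], [2, 7, 6, 7, 6]),
    ([1, 4, 2, 1], [2, 2, 4, 1, 4]),
    ([1, 4, 2, 1], [2, 2, 4, 1, 4]),
    ([1, 4, 2, 1], [2, 2, 4, 1, 4]),
    ([7, 7, 4], [3, 2, 2, 4]),
    ([2, 1, 4, 3], [4, 3, 4, 2, 1]),
    ([1, 4, 3, 1], [3, 3, 4, 1, 4]),
    ([6, 6, 0, 0], [6, 6, 0]),
    ([6, 6, 0, 0], [6, 6, 0]),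
    ([6, 6, 0, 0], [6, 6, 0]),
    ([1, 1, 4, 1], [4, 1, 4, 1, 1]),
    ([1, 4, 3, 2], [1, 1, 4, 1, 4, 0]),
    ([4, 0], [4, 4, 4, 0, 0]),
    ([4, 6, 6, 0], [4, 7, 7, 6, 6]),
    ([4, 6, 6, 0], [4, 7, 7, 6, 6]),
    ([4, 6, 6, 0], [4, 7, 7, 6, 6]),
    ([2, 4, 3, 3], [1, 1, 4, 2, 4]),
    ([6, 6, 4], [4, 4, 4, 6, 6]),
    ([1, 1, 4, 2], [4, 2, 4, 3, 3]),
    ([6, 6, 0], [6, 6, 0, 0]),
    ([1, 1, 4, 1, 0], [4, 1, 4, 3, 2]),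
    ([1, 1, 4, 1, 0], [4, 1, 4, 3, 2]),
    ([1, 1, 4, 1, 0], [4, 1, 4, 3, 2]),
    ([4, 4, 4, 0], [4, 0, 0]),
    ([4, 4, 4, 0], [4, 0, 0]),
    ([4, 4, 4, 0], [4, 0, 0]),
    ([4, 4, 0], [4, 4, 0, 0]),
    ([4, 4, 0], [4, 4, 0, 0]),
    ([4, 4, 0], [4, 4, 0, 0]),
    ([4, 6, 6], [6, 6, 4, 4, 4]),
    ([4, 6, 6], [6, 6, 4, 4, 4]),
    ([4, 6, 6], [6, 6, 4, 4, 4]),
    ([2, 2, 4, 2], [4, 2, 4, 2, 2, 0]),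
    ([2, 4, 2, 1], [2, 7, 6, 7, 6]),
    ([4, 2, 1, 1], [4, 7, 7, 0, 0]),
    ([2, 2, 4, 2, 0], [4, 2, 4, 2, 2]),
    ([2, 2, 4, 2, 0], [4, 2, 4, 2, 2]),
    ([2, 2, 4, 2, 0], [4, 2, 4, 2, 2]),
    ([2, 4, 2, 2], [1, 7, 6, 7, 6]),
    ([4, 6, 6, 0], [4, 7, 7, 6, 6]),
    ([1, 1, 4, 3], [4, 3, 4, 2, 2]),
    ([6, 6, 0], [6, 6, 0, 0]),
    ([6, 6, 0], [6, 6, 0, 0]),
    ([6, 6, 0], [6, 6, 0, 0]),
    ([4], [4, 4, 4]),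
    ([2, 2, 4, 1], [4, 1, 4, 2, 1]),
    ([2, 4, 1, 1], [3, 3, 4, 2, 4]),
    ([6, 6], [6, 6]),
    ([4, 4], [4, 4]),
    ([4, 4], [4, 4]),
    ([4, 4], [4, 4]),
    ([1, 1, 4, 1], [4, 1, 4, 1, 1]),
    ([1, 1, 4, 1], [4, 1, 4, 1, 1]),
    ([1, 1, 4, 1], [4, 1, 4, 1, 1]),
    ([4, 4, 4], [4]),
    ([4, 4, 4], [4]),
    ([4, 4, 4], [4]),
    ([6, 6], [6, 6]),
    ([6, 6], [6, 6]),
    ([6, 6], [6, 6]),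
    ([1, 4, 1, 1], [1, 1, 4, 1, 4]),
    ([4, 0, 0], [4, 4, 4, 0]),
    ([2, 1, 4, 1], [4, 1, 4, 2, 2]),
    ([2, 2, 4, 1], [4, 1, 4, 2, 1]),
    ([2, 2, 4, 1], [4, 1, 4, 2, 1]),
    ([2, 2, 4, 1], [4, 1, 4, 2, 1]),
    ([6, 6, 4, 0], [7, 7, 6, 6, 4]),
    ([2, 1, 4, 2], [4, 2, 4, 1, 1, 0]),
    ([1, 4, 2, 1], [2, 2, 4, 1, 4]),
    ([2, 2, 4, 2], [4, 2, 4, 2, 2, 0]),
    ([2, 2, 4, 2], [4, 2, 4, 2, 2, 0]),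
    ([2, 2, 4, 2], [4, 2, 4, 2, 2, 0]),
    ([2, 2, 4, 3], [4, 3, 4, 1, 1]),
    ([2, 4, 3, 1], [3, 1, 4, 2, 4]),
    ([4, 6, 6], [6, 6, 4, 4, 4])]

/-- Words moving `1` to the representatives, and their inverses. -/
def repWords : List (ℕ × List ℕ × List ℕ) :=
  [
    (1, [], []),
    (2, [1], [1, 1]),
    (3, [1, 1], [1]),
    (4, [6, 4, 1, 7], [7, 7, 7, 5, 6, 5]),
    (21, [5, 1, 7, 1], [7, 1, 7, 3, 5, 4, 4]),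
    (22, [1, 0, 7], [7, 7, 7, 3, 2]),
    (23, [1, 7, 1], [7, 1, 7, 3])]

/-- Elements of order three centralising the involutions. -/
def witWords : List (List ℕ) :=
  [
    [3, 2, 2],
    [2, 2, 1],
    [4, 4, 6, 6],
    [4, 6, 6, 4],
    [4, 4, 7, 7, 0, 0],
    [7, 7, 6, 6, 0, 0],
    [7, 7, 6, 6],
    [4, 4, 7, 7],
    [3, 1, 1],
    [6, 6, 4, 4, 0, 0],
    [7, 7, 4, 4, 0, 0],
    [6, 6, 4, 4, 0],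
    [1, 0, 0],
    [7, 5, 0, 7, 6, 1],
    [2, 5, 6, 4, 4, 4],
    [4, 7, 6, 4, 0, 0],
    [5, 6, 1, 6, 2, 2, 1],
    [4, 7, 4, 6, 3, 2, 2],
    [7, 2, 5, 4, 4, 4],
    [6, 6, 6, 5],
    [7, 1, 7, 0, 7, 2],
    [1, 0],
    [7, 6, 6, 1, 4, 7],
    [6, 5, 6, 7, 5, 3],
    [2, 7, 3, 5, 1],
    [5, 1, 0],
    [6, 2, 7, 6, 3, 1],
    [3, 5, 3, 2, 4, 2]]

/-- Elements of order three fixing `1` centralising the involutions fixing `1`. -/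
def wit1Words : List (List ℕ) :=
  [
    [2, 2, 1],
    [4, 4, 6, 6],
    [4, 6, 6, 4],
    [4, 4, 7, 7, 0, 0],
    [7, 7, 6, 6, 0, 0],
    [3, 2, 2],
    [7, 7, 6, 6],
    [4, 4, 7, 7],
    [3, 1, 1],
    [6, 6, 4, 4, 0, 0],
    [7, 7, 4, 4, 0, 0],
    [6, 6, 4, 4, 0]]

/-- A word for a diagonal element. -/
def fpfWord : List ℕ := [3, 2]

/-- A word for a diagonal element. -/
def rootWord : List ℕ := [3, 2, 2]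

end Cfsg.Agent.U62Three.C.Code
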