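import Cfsg.Agent.U62Three.C.Code.Defs
import Cfsg.Agent.U62Three.C.Code.Data

/-!
# The finite checks for the tower
-/

set_option autoImplicit false
set_option maxRecDepth 100000
set_option maxHeartbeats 4000000

namespace Cfsg.Agent.U62Three.C.Code

open U62Rec K.Code

/-- An element of order three commuting with `a` among the given ones. -/
def hasWit (ys : List ℕ) (a : ℕ) : Bool := ys.any fun y => commB a y

/-- Cube the identity. -/
def isCube (a : ℕ) : Bool := Nat.beq (U62Rec.cmp (U62Rec.cmp a a) a) idm

/-- Order three and not the identity. -/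
def isThree (y : ℕ) : Bool :=
  !Nat.beq y idm && Nat.beq (U62Rec.cmp (U62Rec.cmp y y) y) idm

/-- Transvection or centralised by a listed element with full image. -/
def goodInv (ys : List ℕ) (a : ℕ) : Bool := isT a || (hasWit ys a && fullQ a)

theorem wit_three : ((witWords.map ev ++ wit1Words.map ev).all isThree) = true := by decide +kernel

theorem wit1_fix : ((wit1Words.map ev).all fun y => Nat.beq (app y 1) 1) = true := by decide +kernel

theorem inv1_ok : (inv1.all (goodInv (wit1Words.map ev))) = true := by decide +kernel

theorem red_ok : (Nat.beq unitList.length redWords.length &&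
    (List.zip unitList redWords).all fun p =>
      Nat.beq (app (ev p.2.1) 1) 1 && Nat.beq (U62Rec.cmp (ev p.2.2) (ev p.2.1)) idm &&
        memB (app (ev p.2.1) p.1) (repWords.map Prod.fst)) = true := by
  decide +kernel

theorem rep_ok : (repWords.all fun p =>
    Nat.beq (app (ev p.2.1) 1) p.1 && Nat.beq (U62Rec.cmp (ev p.2.1) (ev p.2.2)) idm) = true := by
  decide +kernel

theorem rep_inv_ok : (repWords.all fun p => cand1.all fun h =>
    let a := U62Rec.cmp (ev p.2.1) h
    !(sqId a && !Nat.beq a idm) || goodInv (witWords.map ev) a) = true := by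
  decide +kernel

theorem unit_ok : (Nat.beq units0.length unitWords.length &&
    (List.zip units0 unitWords).all fun p =>
      Nat.beq (app (ev p.2) 1) 1 && Nat.beq (app (ev p.2) 2) 2 && Nat.beq (app (ev p.2) p.1) 4) = true := by
  decide +kernel

theorem orbit_line_ok : ((List.zip unitList orbitWords).all fun p =>
    Nat.beq (app (ev p.2) (omv p.1)) 2) = true := by
  decide +kernel

theorem pair_ok : (inv1.all fun a => inv1.all fun b =>
    Nat.beq a b || !commB a b ||
      (Nat.ble ((fixList a).filter fun v => Nat.beq (app b v) v).length 8 &&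
        inv1.all fun c => Nat.beq c a || Nat.beq c b || Nat.beq c (U62Rec.cmp a b) ||
          !(commB a c && commB b c))) = true := by
  decide +kernel

theorem fix1_small : (inv1.all fun a => Nat.ble (fixList a).length 16 ||
    (isT a && Nat.beq (app a 2) 2)) = true := by
  decide +kernel

theorem cand1_two : (cand1.all fun a => Nat.beq (app a 2) 2 || Nat.beq (app a 2) 3) = true := by
  decide +kernel

theorem inv12_ok : (inv1.all fun a => !Nat.beq (app a 2) 2 ||
    (isT a && units0.any fun n => Nat.beq (app a n) n)) = true := by
  decide +kernel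

theorem stab3_ok : (stab3.all fun a => isCube a || isCube (U62Rec.cmp a rr)) = true := by
  decide +kernel

theorem stab3_comm : (stab3.all fun a => stab3.all fun b =>
    !(isCube a && isCube b) || commB a b) = true := by
  decide +kernel

theorem stab3_fix : (stab3.all fun a =>
    Nat.beq a idm || Nat.beq a rr || (fixList rr).any fun u => !Nat.beq (app a u) u) = true := by
  decide +kernel

theorem rr_facts : sqId rr && !Nat.beq rr idm && memB rr stab3 && Nat.beq (fixList rr).length 64 &&
    commB rr (ev fpfWord) && isThree (ev fpfWord) &&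
    ((List.range 256).all fun c => (List.range 256).any fun w => Nat.beq (w ^^^ app (ev fpfWord) w) c) = true := by
  decide +kernel

theorem frame_facts : isThree (gPt 0) && isThree (gPt 1) && isThree (ev rootWord) &&
    commB (gPt 0) (gPt 1) && commB (gPt 1) (ev rootWord) && commB (gPt 0) (ev rootWord) &&
    commB (gPt 0) rr && commB (gPt 1) rr &&
    Nat.beq (app (gPt 0) 1) 1 && Nat.beq (app (gPt 1) 1) 2 && Nat.beq (app (gPt 1) 2) 3 &&
    Nat.beq (app (gPt 1) 4) 4 && Nat.beq (app (gPt 0) 2) 2 && memB (ev rootWord) stab3 &&
    !Nat.beq (gPt 1) (ev rootWord) && !Nat.beq (U62Rec.cmp (gPt 1) (gPt 1)) (ev rootWord) &&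
    !Nat.beq (gPt 0) (gPt 1) && !Nat.beq (U62Rec.cmp (gPt 0) (gPt 0)) (gPt 1) &&
    !Nat.beq (gPt 0) (ev rootWord) && !Nat.beq (U62Rec.cmp (gPt 0) (gPt 0)) (ev rootWord) = true := by
  decide +kernel

/-- The nonzero vectors of value zero in a list. -/
def sing (l : List ℕ) : List ℕ := l.filter fun v => !Nat.beq v 0 && !qv 255 v

/-- No three independent orthogonal vectors of value zero. -/
def noSing3 (l : List ℕ) : Bool :=
  (sing l).all fun a => ((sing l).filter fun b => !fv a b && !Nat.beq b a).all fun b =>
    (sing l).all fun c => fv a c || fv b c || Nat.beq c a || Nat.beq c b || Nat.beq c (a ^^^ b)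

theorem sing_low : noSing3 (List.range 64) = true := by decide +kernel

theorem sing_high : noSing3 ((List.range 64).map fun k => 4 * k) = true := by decide +kernel

theorem sep_ok : ((List.range 256).all fun u => Nat.beq u 0 ||
    (unitList.any fun x => fv x u) && (unitList.any fun x => !fv x u)) = true := by
  decide +kernel

theorem sep0_ok : ((List.range 64).all fun k => Nat.beq k 0 ||
    (units0.any fun x => fv x (4 * k)) && (units0.any fun x => !fv x (4 * k))) = true := by
  decide +kernel

theorem hyper_ok : ((List.range 256).all fun f =>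
    unitList.any fun n => !dot f n && !dot f (omv n)) = true := by
  decide +kernel

end Cfsg.Agent.U62Three.C.Code
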