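import Cfsg.Agent.U62Three.K.Code.Lemmas

/-!
# Codes: lists and predicates for the tower
-/

set_option autoImplicit false

namespace Cfsg.Agent.U62Three.C.Code

open U62Rec K.Code

/-- Attained by a word in the generators of the special unitary group. -/
def Att (y : ℕ) : Prop := ∃ w, y = evW gensS w

/-- Membership in a list of numbers. -/
def memB (x : ℕ) (L : List ℕ) : Bool := L.any fun y => Nat.beq x y

/-- The code of a word. -/
def ev (w : List ℕ) : ℕ := evW gensS w

/-- The vectors fixed by a code. -/
def fixList (a : ℕ) : List ℕ := (List.range 256).filter fun v => Nat.beq (app a v) v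

/-- Sixty-four fixed vectors. -/
def isT (a : ℕ) : Bool := Nat.beq (fixList a).length 64

/-- An involution or the identity. -/
def sqId (a : ℕ) : Bool := Nat.beq (U62Rec.cmp a a) idm

/-- Commuting codes. -/
def commB (a b : ℕ) : Bool := Nat.beq (U62Rec.cmp a b) (U62Rec.cmp b a)

/-- Every fixed vector is of the form `w + a w`. -/
def fullQ (a : ℕ) : Bool :=
  let im := (List.range 256).map fun v => v ^^^ app a v
  (fixList a).all fun u => memB u im

/-- The codes fixing the vector `1`. -/
def cand1 : List ℕ := blockCodes 0 ++ (blockCodes 0).map fun h => U62Rec.cmp h gDel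

/-- The involutions fixing `1`, with the identity left out. -/
def inv1 : List ℕ := cand1.filter fun a => sqId a && !Nat.beq a idm

/-- The vectors of value one orthogonal to the first plane. -/
def units0 : List ℕ := units 0

/-- The codes fixing the vectors `1`, `2`, `4`. -/
def stab3 : List ℕ :=
  cand1.filter fun a => Nat.beq (app a 2) 2 && Nat.beq (app a 4) 4

/-- The exchange of the last two planes. -/
def rr : ℕ := linc 1 4 64 16

/-- Parity of the common bits. -/
def dot (f v : ℕ) : Bool := Nat.beq (U62Rec.par (Nat.land f v)) 1

end Cfsg.Agent.U62Three.C.Code
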