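import Cfsg.Agent.U62Three.C.Code.Check

/-!
# The checks as statements on codes
-/

set_option autoImplicit false
set_option maxRecDepth 100000
set_option maxHeartbeats 1000000

namespace Cfsg.Agent.U62Three.C.Code

open U62Rec K.Code

local notation "⊚" => U62Rec.cmp

theorem beq_false {a b : ℕ} (h : a ≠ b) : Nat.beq a b = false := by
  cases e : Nat.beq a b
  · rfl
  · exact absurd (Nat.eq_of_beq_eq_true e) h

theorem memB_iff {x : ℕ} {L : List ℕ} : memB x L = true ↔ x ∈ L := by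
  simp [memB, List.any_eq_true, Nat.beq_eq]

theorem ev_good (w : List ℕ) : Good (ev w) := good_evW good_gensS w

theorem ev_att (w : List ℕ) : Att (ev w) := ⟨w, rfl⟩

theorem ev_append (v w : List ℕ) : ev (v ++ w) = ⊚ (ev v) (ev w) := by
  induction v with
  | nil =>
    show evW gensS w = ⊚ idm (evW gensS w)
    rw [idm_cmp (good_evW good_gensS w).1]
  | cons k v ih =>
    show ⊚ (gensS.getD k idm) (ev (v ++ w)) = _
    rw [ih, ← cmp_assoc]
    rfl

theorem Att.good {y : ℕ} (h : Att y) : Good y := by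
  obtain ⟨w, rfl⟩ := h
  exact ev_good w

theorem att_gen {g : ℕ} (h : g ∈ gensS) : Att g := by
  obtain ⟨k, hk, rfl⟩ := List.getElem_of_mem h
  refine ⟨[k], ?_⟩
  show _ = ⊚ (gensS.getD k idm) idm
  rw [List.getD_eq_getElem _ _ hk, cmp_idm (good_gensS _ (List.getElem_mem hk)).1]

theorem att_pt (i : Fin 4) : Att (gPt i) := att_gen (by fin_cases i <;> simp [gensS])

theorem fixList_iff {a v : ℕ} : v ∈ fixList a ↔ v < 256 ∧ app a v = v := by
  simp [fixList, List.mem_filter, Nat.beq_eq]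

theorem Good.omv {g : ℕ} (hg : Good g) (hl : IsLin g) (v : ℕ) :
    app g (K.Code.omv v) = K.Code.omv (app g v) := by
  have _ := hg
  show app g (app gOm v) = app gOm (app g v)
  rw [← app_cmp, hl, app_cmp]

theorem mem_cand1 {g : ℕ} (hg : Good g) (h1 : app g 1 = 1) : g ∈ cand1 := by
  obtain ⟨hc, hl | hl, hi⟩ := hg
  · exact List.mem_append_left _ (mem_blockCodes hc hl hi 0 (by simpa using h1))
  · refine List.mem_append_right _ (List.mem_map.2 ⟨⊚ g gDel, ?_, ?_⟩)
    · have hd : Good gDel := good_of_mem (by simp [goodList])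
      refine mem_blockCodes (isCode_cmp _ _) (anti_cmp_anti hl om_eqs.1) (iso_cmp hi hd.2.2) 0 ?_
      show app (⊚ g gDel) 1 = 1
      rw [app_cmp, om_eqs.2.2.2.1, h1]
    · rw [cmp_assoc, om_eqs.2.1, cmp_idm hc]

theorem mem_inv1 {a : ℕ} (ha : Good a) (h2 : ⊚ a a = idm) (hne : a ≠ idm) (h1 : app a 1 = 1) :
    a ∈ inv1 := by
  refine List.mem_filter.2 ⟨mem_cand1 ha h1, ?_⟩
  simp [sqId, h2, beq_false hne]

theorem mem_stab3 {a : ℕ} (ha : Good a) (h1 : app a 1 = 1) (h2 : app a 2 = 2) (h4 : app a 4 = 4) :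
    a ∈ stab3 := by
  refine List.mem_filter.2 ⟨mem_cand1 ha h1, ?_⟩
  simp [h2, h4]

/-- Every fixed vector is of the form `w + a w`. -/
def Full (a : ℕ) : Prop := ∀ u < 256, app a u = u → ∃ w < 256, w ^^^ app a w = u

/-- An attained element of order three. -/
def Three (y : ℕ) : Prop := Att y ∧ y ≠ idm ∧ ⊚ (⊚ y y) y = idm

theorem full_of {a : ℕ} (h : fullQ a = true) : Full a := by
  intro u hu hau
  simp only [fullQ, List.all_eq_true] at h
  obtain ⟨w, hw, rfl⟩ := List.mem_map.1 (memB_iff.1 (h u (fixList_iff.2 ⟨hu, hau⟩)))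
  exact ⟨w, List.mem_range.1 hw, rfl⟩

theorem three_of {ws : List (List ℕ)} (h : (ws.map ev).all isThree = true) {y : ℕ} (hy : y ∈ ws.map ev) :
    Three y := by
  rw [List.all_eq_true] at h
  have := h y hy
  obtain ⟨w, -, rfl⟩ := List.mem_map.1 hy
  simp only [isThree, Bool.and_eq_true, Bool.not_eq_eq_eq_not, Bool.not_true, Nat.beq_eq] at this
  refine ⟨ev_att w, fun e => ?_, this.2⟩
  have h1 := this.1
  rw [e] at h1
  simp [Nat.beq_refl] at h1

/-- An involution fixing `1` is a transvection or is centralised by an element of order three fixing `1`. -/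
theorem inv_wit1 {a : ℕ} (ha : Good a) (h2 : ⊚ a a = idm) (hne : a ≠ idm) (h1 : app a 1 = 1) :
    isT a = true ∨ (Full a ∧ ∃ y, Three y ∧ app y 1 = 1 ∧ ⊚ a y = ⊚ y a) := by
  have h := inv1_ok
  rw [List.all_eq_true] at h
  have h' := h a (mem_inv1 ha h2 hne h1)
  simp only [goodInv, Bool.or_eq_true, Bool.and_eq_true, hasWit, List.any_eq_true, commB, Nat.beq_eq] at h'
  rcases h' with h' | ⟨⟨y, hy, he⟩, hq⟩
  · exact Or.inl h'
  · have ht := wit_three
    rw [List.all_append, Bool.and_eq_true] at ht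
    refine Or.inr ⟨full_of hq, y, three_of ht.2 hy, ?_, he⟩
    have hf := wit1_fix
    rw [List.all_eq_true] at hf
    simpa [Nat.beq_eq] using hf y hy

/-- The number of fixed vectors is unchanged by conjugation. -/
theorem isT_conj {a W W' : ℕ} (hW : IsCode W) (hWW : ⊚ W' W = idm) (hWW' : ⊚ W W' = idm) :
    isT (⊚ W (⊚ a W')) = isT a := by
  have _ := hW
  have e1 : ∀ v < 256, app W' (app W v) = v := fun v hv => by rw [← app_cmp, hWW, app_idm hv]
  have e2 : ∀ v < 256, app W (app W' v) = v := fun v hv => by rw [← app_cmp, hWW', app_idm hv]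
  have hperm : (fixList (⊚ W (⊚ a W'))).Perm ((fixList a).map (app W)) := by
    refine (List.perm_ext_iff_of_nodup (List.nodup_range.filter _) ?_).2 fun v => ?_
    · refine List.Nodup.map_on ?_ (List.nodup_range.filter _)
      intro x hx y hy e
      rw [← e1 x (fixList_iff.1 hx).1, e, e1 y (fixList_iff.1 hy).1]
    · rw [show v ∈ List.filter _ _ ↔ _ from fixList_iff (a := ⊚ W (⊚ a W')), List.mem_map]
      constructor
      · rintro ⟨hv, hf⟩
        refine ⟨app W' v, fixList_iff.2 ⟨app_lt _ _, ?_⟩, e2 v hv⟩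
        rw [app_cmp, app_cmp] at hf
        have := congrArg (app W') hf
        rwa [e1 _ (app_lt _ _)] at this
      · rintro ⟨u, hu, rfl⟩
        obtain ⟨hu, hau⟩ := fixList_iff.1 hu
        exact ⟨app_lt _ _, by rw [app_cmp, app_cmp, e1 u hu, hau]⟩
  rw [isT, isT, hperm.length_eq, List.length_map]

theorem full_conj {a W W' : ℕ} (hWW : ⊚ W' W = idm) (hWW' : ⊚ W W' = idm) (h : Full a) :
    Full (⊚ W (⊚ a W')) := by
  intro u hu hf
  rw [app_cmp, app_cmp] at hf
  have := congrArg (app W') hf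
  rw [← app_cmp W' W, hWW, app_idm (app_lt _ _)] at this
  obtain ⟨w, hw, e⟩ := h _ (app_lt _ _) this
  refine ⟨app W w, app_lt _ _, ?_⟩
  rw [app_cmp, app_cmp, ← app_cmp W' W w, hWW, app_idm hw, ← app_xor, e, ← app_cmp, hWW', app_idm hu]

theorem ev_inverse {v w : List ℕ} (h : ⊚ (ev v) (ev w) = idm) : ⊚ (ev w) (ev v) = idm := by
  -- a map of a finite set with a one-sided inverse
  have hinj : ∀ x < 256, ∀ y < 256, app (ev w) x = app (ev w) y → x = y := fun x hx y hy e => by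
    rw [← app_idm hx, ← app_idm hy, ← h, app_cmp, app_cmp, e]
  let f : Fin 256 → Fin 256 := fun x => ⟨app (ev w) x, app_lt _ _⟩
  have hf : Function.Surjective f :=
    Finite.surjective_of_injective fun x y e => Fin.ext (hinj x x.2 y y.2 (Fin.ext_iff.1 e))
  refine code_ext (isCode_cmp _ _) isCode_idm fun x hx => ?_
  obtain ⟨y, hy⟩ := hf ⟨x, hx⟩
  have hy' : app (ev w) (y : ℕ) = x := Fin.ext_iff.1 hy
  rw [app_cmp, app_idm hx, ← hy', ← app_cmp (ev v) (ev w), h, app_idm y.2]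

/-- An involution is a transvection or is centralised by an attained element of order three. -/
theorem inv_wit {a : ℕ} (ha : Good a) (h2 : ⊚ a a = idm) (hne : a ≠ idm) :
    isT a = true ∨ (Full a ∧ ∃ y, Three y ∧ ⊚ a y = ⊚ y a) := by
  have hu : app a 1 ∈ unitList := List.mem_filter.2
    ⟨List.mem_range.2 (app_lt _ _), by rw [ha.2.2 1 (by norm_num)]; decide +kernel⟩
  have hr := red_ok
  rw [Bool.and_eq_true, List.all_eq_true] at hr
  obtain ⟨⟨v, v'⟩, hp⟩ := exists_partner (Nat.eq_of_beq_eq_true hr.1) hu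
  have hv := hr.2 _ hp
  simp only [Bool.and_eq_true, Nat.beq_eq, memB_iff] at hv
  obtain ⟨⟨hv1, hvv⟩, hrep⟩ := hv
  obtain ⟨⟨r, p, p'⟩, hmem, hr'⟩ := List.mem_map.1 hrep
  have hinv := ev_inverse hvv
  -- the conjugate sends `1` to the representative
  obtain ⟨b, hb⟩ : ∃ b, ⊚ (ev v) (⊚ a (ev v')) = b := ⟨_, rfl⟩
  have e1 : app (ev v') 1 = 1 := by
    conv_rhs => rw [← app_idm (show 1 < 256 by norm_num), ← hvv, app_cmp, hv1]
  have hb1 : app b 1 = r := by rw [← hb, app_cmp, app_cmp, e1]; exact hr'.symm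
  have hbg : Good b := hb ▸ good_cmp (ev_good v) (good_cmp ha (ev_good v'))
  have hback : ⊚ (ev v') (⊚ b (ev v)) = a := by
    rw [← hb, ← cmp_assoc (ev v') (⊚ (ev v) _) (ev v), ← cmp_assoc (ev v') (ev v), hvv,
      idm_cmp (isCode_cmp _ _), cmp_assoc, hvv, cmp_idm ha.1]
  have hb2 : ⊚ b b = idm := by
    rw [← hb, cmp_assoc (ev v), cmp_assoc a, ← cmp_assoc (ev v') (ev v), hvv, idm_cmp (isCode_cmp _ _),
      ← cmp_assoc a a, h2, idm_cmp (ev_good v').1, hinv]
  have hbne : b ≠ idm := fun e => hne (by rw [← hback, e, idm_cmp (ev_good v).1, hvv])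
  have hrp := rep_ok
  rw [List.all_eq_true] at hrp
  have hp' := hrp _ hmem
  simp only [Bool.and_eq_true, Nat.beq_eq] at hp'
  have hcand : ⊚ (ev p') b ∈ cand1 := by
    refine mem_cand1 (good_cmp (ev_good p') hbg) ?_
    rw [app_cmp, hb1, ← hp'.1, ← app_cmp, ev_inverse hp'.2, app_idm (by norm_num)]
  have hi := rep_inv_ok
  simp only [List.all_eq_true] at hi
  have hgood := hi _ hmem _ hcand
  rw [← cmp_assoc, hp'.2, idm_cmp hbg.1] at hgood
  simp only [sqId, hb2, Nat.beq_refl, Bool.true_and, Bool.not_not, Bool.or_eq_true, Nat.beq_eq,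
    goodInv, Bool.and_eq_true, hasWit, List.any_eq_true, commB, hbne, false_or] at hgood
  rcases hgood with h' | ⟨⟨y, hy, he⟩, hq⟩
  · left
    rw [← hback, isT_conj (ev_good v').1 hinv hvv]
    exact h'
  · right
    refine ⟨hback ▸ full_conj hinv hvv (full_of hq), ⊚ (ev v') (⊚ y (ev v)), ?_, ?_⟩
    · have ht := wit_three
      rw [List.all_append, Bool.and_eq_true] at ht
      obtain ⟨hy1, hy2, hy3⟩ := three_of ht.1 hy
      obtain ⟨w, rfl⟩ := hy1
      refine ⟨⟨v' ++ (w ++ v), ?_⟩, fun e => hy2 ?_, ?_⟩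
      · show _ = ev (v' ++ (w ++ v))
        rw [ev_append, ev_append]
        rfl
      · have := congrArg (fun x => ⊚ (ev v) (⊚ x (ev v'))) e
        simp only [cmp_assoc, hinv, cmp_idm (good_evW good_gensS w).1, idm_cmp (ev_good v').1] at this
        rwa [← cmp_assoc, hinv, idm_cmp (good_evW good_gensS w).1] at this
      · simp only [cmp_assoc]
        rw [← cmp_assoc (ev v) (ev v'), hinv, idm_cmp (isCode_cmp _ _), ← cmp_assoc (ev v) (ev v'), hinv,
          idm_cmp (isCode_cmp _ _), ← cmp_assoc (evW gensS w) (evW gensS w),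
          ← cmp_assoc (U62Rec.cmp (evW gensS w) (evW gensS w)), hy3, idm_cmp (ev_good v).1, hvv]
    · rw [← hback]
      simp only [cmp_assoc]
      rw [← cmp_assoc (ev v) (ev v'), hinv, idm_cmp (isCode_cmp _ _), ← cmp_assoc (ev v) (ev v'), hinv,
        idm_cmp (isCode_cmp _ _), ← cmp_assoc b y, he, cmp_assoc]

/-- Two different commuting involutions fixing `1` have at most eight common fixed vectors, and no third one
commutes with both outside their product. -/
theorem pair_bound {a b : ℕ} (ha : Good a) (ha2 : ⊚ a a = idm) (han : a ≠ idm) (ha1 : app a 1 = 1)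
    (hb : Good b) (hb2 : ⊚ b b = idm) (hbn : b ≠ idm) (hb1 : app b 1 = 1) (hab : a ≠ b)
    (hc : ⊚ a b = ⊚ b a) :
    ((fixList a).filter fun v => Nat.beq (app b v) v).length ≤ 8 ∧
      ∀ c, Good c → ⊚ c c = idm → c ≠ idm → app c 1 = 1 → ⊚ a c = ⊚ c a → ⊚ b c = ⊚ c b →
        c = a ∨ c = b ∨ c = ⊚ a b := by
  have h := pair_ok
  simp only [List.all_eq_true] at h
  have h' := h a (mem_inv1 ha ha2 han ha1) b (mem_inv1 hb hb2 hbn hb1)
  simp only [commB, hc, Nat.beq_refl, Bool.not_true, Bool.or_false, Bool.or_eq_true, Nat.beq_eq,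
    Bool.and_eq_true, List.all_eq_true, Nat.ble_eq] at h'
  rcases h' with e | ⟨h8, h3⟩
  · exact absurd e hab
  · refine ⟨h8, fun c hcg hc2 hcn hc1 hac hbc => ?_⟩
    have h'' := h3 c (mem_inv1 hcg hc2 hcn hc1)
    simp only [hac, hbc, Nat.beq_refl, Bool.and_self, Bool.not_true, Bool.or_false, Bool.or_eq_true,
      Nat.beq_eq] at h''
    rcases h'' with ((e | e) | e) | e
    · exact Or.inl e
    · exact Or.inr (Or.inl e)
    · exact Or.inr (Or.inr (by rw [hc]; exact e))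
    · simp at e

/-- An involution fixing `1` with more than sixteen fixed vectors is a transvection fixing `2`. -/
theorem inv1_big {a : ℕ} (ha : Good a) (h2 : ⊚ a a = idm) (hne : a ≠ idm) (h1 : app a 1 = 1) :
    (fixList a).length ≤ 16 ∨ (isT a = true ∧ app a 2 = 2) := by
  have h := fix1_small
  rw [List.all_eq_true] at h
  have h' := h a (mem_inv1 ha h2 hne h1)
  simpa only [Bool.or_eq_true, Bool.and_eq_true, Nat.ble_eq, Nat.beq_eq] using h'

theorem fix1_two {a : ℕ} (ha : Good a) (h1 : app a 1 = 1) : app a 2 = 2 ∨ app a 2 = 3 := by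
  have h := cand1_two
  rw [List.all_eq_true] at h
  simpa only [Bool.or_eq_true, Nat.beq_eq] using h a (mem_cand1 ha h1)

theorem inv12 {a : ℕ} (ha : Good a) (h2 : ⊚ a a = idm) (hne : a ≠ idm) (h1 : app a 1 = 1)
    (h12 : app a 2 = 2) : ∃ n ∈ units0, app a n = n := by
  have h := inv12_ok
  rw [List.all_eq_true] at h
  have h' := h a (mem_inv1 ha h2 hne h1)
  simp only [h12, Nat.beq_refl, Bool.not_true, Bool.false_or, Bool.and_eq_true, List.any_eq_true,
    Nat.beq_eq] at h'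
  exact h'.2

theorem stab3_cases {a : ℕ} (ha : a ∈ stab3) :
    ⊚ (⊚ a a) a = idm ∨ ⊚ (⊚ (⊚ a rr) (⊚ a rr)) (⊚ a rr) = idm := by
  have h := stab3_ok
  rw [List.all_eq_true] at h
  simpa only [Bool.or_eq_true, isCube, Nat.beq_eq] using h a ha

theorem stab3_commute {a b : ℕ} (ha : a ∈ stab3) (hb : b ∈ stab3) (h : ⊚ (⊚ a a) a = idm)
    (h' : ⊚ (⊚ b b) b = idm) : ⊚ a b = ⊚ b a := by
  have hc := stab3_comm
  simp only [List.all_eq_true] at hc
  have := hc a ha b hb
  simpa only [isCube, h, h', Nat.beq_refl, Bool.and_self, Bool.not_true, Bool.false_or, commB, Nat.beq_eq]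
    using this

theorem stab3_fixing {a : ℕ} (ha : a ∈ stab3) (h : ∀ u < 256, app rr u = u → app a u = u) :
    a = idm ∨ a = rr := by
  have hc := stab3_fix
  rw [List.all_eq_true] at hc
  have := hc a ha
  simp only [Bool.or_eq_true, Nat.beq_eq, List.any_eq_true] at this
  rcases this with (e | e) | ⟨u, hu, hne⟩
  · exact Or.inl e
  · exact Or.inr e
  · obtain ⟨hu, hf⟩ := fixList_iff.1 hu
    rw [h u hu hf, Nat.beq_refl] at hne
    simp at hne

theorem rr_props : ⊚ rr rr = idm ∧ rr ≠ idm ∧ rr ∈ stab3 ∧ (fixList rr).length = 64 ∧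
    ⊚ rr (ev fpfWord) = ⊚ (ev fpfWord) rr ∧ Three (ev fpfWord) ∧
    ∀ c < 256, ∃ w < 256, w ^^^ app (ev fpfWord) w = c := by
  have h := rr_facts
  simp only [Bool.and_eq_true, Bool.not_eq_eq_eq_not, Bool.not_true, sqId, Nat.beq_eq, memB_iff, commB,
    isThree, List.all_eq_true, List.any_eq_true, List.mem_range, decide_eq_true_eq] at h
  obtain ⟨⟨⟨⟨⟨⟨h1, h2⟩, h3⟩, h4⟩, h5⟩, h6, h7⟩, h8⟩ := h
  refine ⟨h1, fun e => ?_, h3, h4, h5, ⟨ev_att _, fun e => ?_, h7⟩, h8⟩
  · rw [e, Nat.beq_refl] at h2; simp at h2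
  · rw [e, Nat.beq_refl] at h6; simp at h6

theorem rr_good : Good rr ∧ app rr 1 = 1 ∧ app rr 2 = 2 ∧ app rr 4 = 4 := by
  have h := rr_props.2.2.1
  simp only [stab3, List.mem_filter, Bool.and_eq_true, Nat.beq_eq] at h
  obtain ⟨hc, h2, h4⟩ := h
  rcases List.mem_append.1 hc with hb | hb
  · refine ⟨?_, ?_, h2, h4⟩
    · refine ⟨isCode_linc (by norm_num) (by norm_num) (by norm_num) (by norm_num), Or.inl ?_, ?_⟩
      · show ⊚ rr gOm = ⊚ gOm rr
        decide +kernel
      · show ∀ v < 256, qv 255 (app rr v) = qv 255 v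
        decide +kernel
    · decide +kernel
  · refine ⟨⟨isCode_linc (by norm_num) (by norm_num) (by norm_num) (by norm_num), Or.inl ?_, ?_⟩, ?_, h2, h4⟩
    · show ⊚ rr gOm = ⊚ gOm rr
      decide +kernel
    · show ∀ v < 256, qv 255 (app rr v) = qv 255 v
      decide +kernel
    · decide +kernel

theorem rr_att : Att rr := ⟨[4, 4, 3, 2, 2], by decide +kernel⟩

/-- A list closed under `^^^` of vectors of value zero inside six coordinates has at most four elements. -/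
theorem sing_bound {l : List ℕ} (hl : noSing3 l = true) {a b c : ℕ} (ha : a ∈ sing l) (hb : b ∈ sing l)
    (hc : c ∈ sing l) (hab : fv a b = false) (hac : fv a c = false) (hbc : fv b c = false) (hba : b ≠ a)
    (hca : c ≠ a) (hcb : c ≠ b) : c = a ^^^ b := by
  simp only [noSing3, List.all_eq_true] at hl
  have h := hl a ha b (List.mem_filter.2 ⟨hb, by simp [hab, beq_false hba]⟩) c hc
  simpa [hac, hbc, hca, hcb, Nat.beq_eq] using h

theorem sep {u : ℕ} (hu : u < 256) (h0 : u ≠ 0) :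
    ∃ x ∈ unitList, ∃ y ∈ unitList, fv x u = true ∧ fv y u = false := by
  have h := sep_ok
  rw [List.all_eq_true] at h
  have h' := h u (List.mem_range.2 hu)
  simp only [Bool.or_eq_true, Bool.and_eq_true, Nat.beq_eq, List.any_eq_true] at h'
  rcases h' with e | ⟨⟨x, hx, e1⟩, y, hy, e2⟩
  · exact absurd e h0
  · exact ⟨x, hx, y, hy, e1, by simpa using e2⟩

theorem sep0 {k : ℕ} (hk : k < 64) (h0 : k ≠ 0) :
    ∃ x ∈ units0, ∃ y ∈ units0, fv x (4 * k) = true ∧ fv y (4 * k) = false := by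
  have h := sep0_ok
  rw [List.all_eq_true] at h
  have h' := h k (List.mem_range.2 hk)
  simp only [Bool.or_eq_true, Bool.and_eq_true, Nat.beq_eq, List.any_eq_true] at h'
  rcases h' with e | ⟨⟨x, hx, e1⟩, y, hy, e2⟩
  · exact absurd e h0
  · exact ⟨x, hx, y, hy, e1, by simpa using e2⟩

theorem hyper {f : ℕ} (hf : f < 256) :
    ∃ n ∈ unitList, dot f n = false ∧ dot f (K.Code.omv n) = false := by
  have h := hyper_ok
  rw [List.all_eq_true] at h
  have h' := h f (List.mem_range.2 hf)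
  simpa [List.any_eq_true] using h'

/-- A word moving a vector of value one to `1` and its scalar multiple to `2`. -/
theorem orbit_word {n : ℕ} (hn : n ∈ unitList) :
    ∃ w, app (ev w) n = 1 ∧ app (ev w) (K.Code.omv n) = 2 := by
  have h := orbit_ok
  rw [Bool.and_eq_true, List.all_eq_true] at h
  obtain ⟨w, hw⟩ := exists_partner (Nat.eq_of_beq_eq_true h.1) hn
  have h2 := orbit_line_ok
  rw [List.all_eq_true] at h2
  have e1 := h.2 _ hw
  have e2 := h2 _ hw
  dsimp only at e1 e2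
  exact ⟨w, Nat.eq_of_beq_eq_true e1, Nat.eq_of_beq_eq_true e2⟩

/-- A word fixing `1`, `2` and moving a vector of `units0` to `4`. -/
theorem unit_word {n : ℕ} (hn : n ∈ units0) :
    ∃ w, app (ev w) 1 = 1 ∧ app (ev w) 2 = 2 ∧ app (ev w) n = 4 := by
  have h := unit_ok
  rw [Bool.and_eq_true, List.all_eq_true] at h
  obtain ⟨w, hw⟩ := exists_partner (Nat.eq_of_beq_eq_true h.1) hn
  have h' := h.2 _ hw
  simp only [Bool.and_eq_true, Nat.beq_eq] at h'
  exact ⟨w, h'.1.1, h'.1.2, h'.2⟩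

/-- The diagonal elements used for generation by centralisers. -/
theorem frame_props : Three (gPt 0) ∧ Three (gPt 1) ∧ Three (ev rootWord) ∧
    ⊚ (gPt 0) (gPt 1) = ⊚ (gPt 1) (gPt 0) ∧ ⊚ (gPt 1) (ev rootWord) = ⊚ (ev rootWord) (gPt 1) ∧
    ⊚ (gPt 0) (ev rootWord) = ⊚ (ev rootWord) (gPt 0) ∧ ⊚ (gPt 0) rr = ⊚ rr (gPt 0) ∧
    ⊚ (gPt 1) rr = ⊚ rr (gPt 1) ∧ app (gPt 0) 1 = 1 ∧ app (gPt 1) 1 = 2 ∧ app (gPt 1) 2 = 3 ∧
    app (gPt 1) 4 = 4 ∧ app (gPt 0) 2 = 2 ∧ ev rootWord ∈ stab3 ∧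
    (gPt 1 ≠ ev rootWord ∧ ⊚ (gPt 1) (gPt 1) ≠ ev rootWord) ∧
    (gPt 0 ≠ gPt 1 ∧ ⊚ (gPt 0) (gPt 0) ≠ gPt 1) ∧
    (gPt 0 ≠ ev rootWord ∧ ⊚ (gPt 0) (gPt 0) ≠ ev rootWord) := by
  have h := frame_facts
  have hn : ∀ {a b : ℕ}, (!Nat.beq a b) = true → a ≠ b := fun h e => by
    rw [e, Nat.beq_refl] at h; simp at h
  simp only [Bool.and_eq_true, isThree, commB, memB_iff, Nat.beq_eq] at h
  obtain ⟨⟨⟨⟨⟨⟨⟨⟨⟨⟨⟨⟨⟨⟨⟨⟨⟨⟨⟨h1, h2⟩, h3⟩, h4⟩, h5⟩, h6⟩, h7⟩, h8⟩, h9⟩, h10⟩, h11⟩, h12⟩, h13⟩, h14⟩,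
    h15⟩, h16⟩, h17⟩, h18⟩, h19⟩, h20⟩ := h
  exact ⟨⟨att_pt 0, hn h1.1, h1.2⟩, ⟨att_pt 1, hn h2.1, h2.2⟩, ⟨ev_att _, hn h3.1, h3.2⟩, h4, h5, h6, h7,
    h8, h9, h10, h11, h12, h13, h14, ⟨hn h15, hn h16⟩, ⟨hn h17, hn h18⟩, hn h19, hn h20⟩

end Cfsg.Agent.U62Three.C.Code
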