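import Cfsg.Agent.U62Three.C.Code.Defs

/-!
# Words for the normaliser
-/

set_option autoImplicit false
set_option maxRecDepth 100000

namespace Cfsg.Agent.U62Three.C.Code

/-- For each vector of value one not orthogonal to the first plane and outside it a word fixing `1` moving it to a fixed one. -/
def crossWords : List (ℕ × List ℕ) :=
  [
    (22, []),
    (26, [3, 3, 1]),
    (30, [4]),
    (38, [4, 0, 0]),
    (42, [0, 0]),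
    (46, [2, 1, 1]),
    (54, [3, 2, 2]),
    (58, [4, 0]),
    (62, [0]),
    (70, [2, 4, 1, 1]),
    (74, [4, 4, 0, 0]),
    (78, [2, 4, 2, 1]),
    (82, [1, 4, 2, 1]),
    (98, [6, 6, 0, 0]),
    (114, [4, 6, 6, 0]),
    (134, [1, 1, 4, 1, 0]),
    (138, [4, 4, 4, 0]),
    (142, [4, 4, 0]),
    (146, [4, 6, 6]),
    (162, [2, 2, 4, 2, 0]),
    (178, [6, 6, 0]),
    (198, [4, 4]),
    (202, [1, 1, 4, 1]),
    (206, [4, 4, 4]),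
    (210, [6, 6]),
    (226, [2, 2, 4, 1]),
    (242, [2, 2, 4, 2])]

/-- Words for a group of order 81. -/
def sylWords : List (List ℕ) :=
  [
    [],
    [3, 2, 2],
    [3, 3, 2],
    [3, 1, 1],
    [0],
    [2, 1, 1],
    [3, 3, 1],
    [2, 2, 1],
    [0, 0],
    [3, 0, 0],
    [1],
    [2, 0, 0],
    [2],
    [3],
    [1, 0],
    [1, 0, 0],
    [2, 0],
    [3, 0],
    [3, 3, 0],
    [2, 2, 0],
    [1, 1],
    [1, 1, 0],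
    [2, 1],
    [3, 1],
    [2, 2],
    [3, 2],
    [3, 3],
    [7, 7, 4, 4, 0],
    [4, 6, 6, 4],
    [4, 4, 6, 6, 0, 0],
    [4, 4, 6, 6],
    [7, 7, 4, 4, 0, 0],
    [6, 6, 7, 7],
    [6, 6, 7, 7, 0],
    [4, 4, 6, 6, 0],
    [7, 7, 4, 4],
    [7, 7, 4, 4, 2],
    [4, 4, 6, 6, 1, 0],
    [7, 7, 4, 4, 1],
    [6, 6, 7, 7, 3],
    [4, 6, 6, 4, 1],
    [4, 6, 6, 4, 2],
    [4, 4, 6, 6, 1],
    [4, 4, 6, 6, 2],
    [6, 6, 7, 7, 1],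
    [4, 3, 4, 2, 4],
    [4, 2, 4, 1, 4, 0],
    [4, 1, 4, 3, 4],
    [4, 1, 4, 3, 4, 0],
    [4, 3, 4, 2, 4, 0],
    [7, 7, 4, 4, 1, 1],
    [4, 2, 4, 1, 4],
    [4, 6, 6, 4, 1, 1],
    [4, 7, 6, 7, 6],
    [4, 4, 7, 7, 0, 0],
    [6, 6, 4, 4],
    [7, 7, 6, 6, 0, 0],
    [7, 7, 6, 6],
    [4, 4, 7, 7],
    [6, 6, 4, 4, 0],
    [6, 6, 4, 4, 0, 0],
    [7, 7, 6, 6, 0],
    [4, 4, 7, 7, 0],
    [4, 4, 7, 7, 1, 0],
    [7, 7, 6, 6, 3, 0],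
    [6, 6, 4, 4, 2],
    [6, 6, 4, 4, 2, 0],
    [7, 7, 6, 6, 2],
    [6, 6, 4, 4, 1],
    [7, 7, 6, 6, 3],
    [7, 7, 6, 6, 1],
    [4, 4, 7, 7, 1],
    [4, 4, 7, 7, 1, 1],
    [4, 2, 4, 3, 4, 0],
    [4, 1, 4, 2, 4, 0],
    [6, 6, 4, 4, 2, 1],
    [4, 3, 4, 1, 4],
    [7, 7, 6, 6, 2, 2],
    [4, 2, 4, 3, 4],
    [4, 1, 4, 2, 4],
    [4, 3, 4, 1, 4, 0]]

end Cfsg.Agent.U62Three.C.Code
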