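import Cfsg.Agent.U62Three.C.Code.Facts
import Cfsg.Agent.U62Three.C.Code.NormData

/-!
# Checks for the normaliser of the space of vectors
-/

set_option autoImplicit false
set_option maxRecDepth 100000
set_option maxHeartbeats 4000000

namespace Cfsg.Agent.U62Three.C.Code

open U62Rec K.Code

/-- The images allowed for a vector paired with `4` under maps fixing `1`, `2`, `4`. -/
def pairList : List ℕ :=
  (List.range 256).filter fun v => qv 255 v && !fv v 1 && !fv v 2 && fv v 4

/-- The vectors of value one orthogonal to `1`, `2`, `4` and `w`. -/
def restList (w : ℕ) : List ℕ :=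
  (List.range 256).filter fun v => qv 255 v && !fv v 1 && !fv v 2 && !fv v 4 && !fv v w

/-- All sums of a list. -/
def spanOf (l : List ℕ) : List ℕ := l.foldl (fun acc x => acc ++ acc.map fun y => y ^^^ x) [0]

/-- The vectors of value one meeting `1` outside the first plane. -/
def crossList : List ℕ := (List.range 256).filter fun v => qv 255 v && fv v 1

theorem pair_len : pairList.length = 20 := by decide +kernel

theorem rest_len : (pairList.all fun w => Nat.beq (restList w).length 6) = true := by decide +kernel

theorem rest_span : (pairList.all fun w => (List.range 8).all fun k =>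
    memB (2 ^ k) (spanOf (1 :: 2 :: 4 :: w :: restList w))) = true := by
  decide +kernel

theorem cross_ok : (crossWords.all fun p =>
    Nat.beq (app (ev p.2) 1) 1 && Nat.beq (app (ev p.2) p.1) 22) = true := by
  decide +kernel

theorem cross_cover : (crossList.all fun v => Nat.beq v 2 || Nat.beq v 3 ||
    memB v (crossWords.map Prod.fst) || memB (v ^^^ 1) (crossWords.map Prod.fst)) = true := by
  decide +kernel

theorem cross_sets : crossList.toFinset.card = 56 ∧
    (insert 2 ((crossWords.map Prod.fst).toFinset)).card = 28 ∧
    (insert 2 (((crossWords.map Prod.fst).map fun v => v ^^^ 1).toFinset)).card = 28 ∧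
    ((crossWords.map Prod.fst).all fun v => memB v crossList && memB (v ^^^ 1) crossList) = true := by
  decide +kernel

theorem unit_counts : unitList.length = 120 ∧ units0.length = 36 := by decide +kernel

theorem syl_ok : (Nat.beq (sylWords.map ev).length 81 &&
    decide (sylWords.map ev).Nodup && memB idm (sylWords.map ev) &&
    (sylWords.map ev).all fun a => ((sylWords.map ev).all fun b => memB (U62Rec.cmp a b) (sylWords.map ev))) = true := by
  decide +kernel

/-- Six distinct codes fixing `1`, `2`, `4`. -/
def sixCodes : List ℕ :=
  let x := ev rootWord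
  [idm, rr, x, U62Rec.cmp x x, U62Rec.cmp x rr, U62Rec.cmp (U62Rec.cmp x x) rr]

theorem six_ok : (decide sixCodes.Nodup && sixCodes.all fun a =>
    Nat.beq (app a 1) 1 && Nat.beq (app a 2) 2 && Nat.beq (app a 4) 4) = true := by
  decide +kernel

theorem smooth_cases : ([1, 2, 28, 56].all fun m => (List.range 2401).all fun k =>
    !(Nat.beq ((m * k) % 81) 1 && Nat.beq ((60 ^ 14) % k) 0) || (Nat.beq m 1 && Nat.beq k 1)) = true := by
  decide +kernel

end Cfsg.Agent.U62Three.C.Code
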