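import Cfsg.Agent.U62Three.C.Code.Facts

/-!
# The centres of the transvections fixing `1`
-/

set_option autoImplicit false
set_option maxRecDepth 100000
set_option maxHeartbeats 4000000

namespace Cfsg.Agent.U62Three.C.Code

open U62Rec K.Code

/-- Conditions on a nonzero image of `1 + a`. -/
def centreOK (a c : ℕ) : Bool :=
  let d := omv c
  let e := c ^^^ d
  Nat.beq (app a c) c && Nat.beq (app a d) d &&
    qv 255 (1 ^^^ d) && Nat.beq (omv (1 ^^^ d)) (2 ^^^ e) &&
    qv 255 (1 ^^^ e) && Nat.beq (omv (1 ^^^ e)) (2 ^^^ c)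

theorem centre_ok : (inv1.all fun a => !isT a || (List.range 256).all fun w =>
    let c := w ^^^ app a w
    Nat.beq c 0 || centreOK a c) = true := by
  decide +kernel

theorem root_fix : app (ev rootWord) 1 = 1 := by decide +kernel

/-- The images of `1 + a` for a transvection `a` fixing `1`. -/
theorem centre {a : ℕ} (ha : Good a) (h2 : U62Rec.cmp a a = idm) (hne : a ≠ idm) (h1 : app a 1 = 1)
    (hT : isT a = true) {w : ℕ} (hw : w < 256) (hc : w ^^^ app a w ≠ 0) :
    app a (w ^^^ app a w) = w ^^^ app a w ∧ app a (omv (w ^^^ app a w)) = omv (w ^^^ app a w) ∧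
    qv 255 (1 ^^^ omv (w ^^^ app a w)) = true ∧
    omv (1 ^^^ omv (w ^^^ app a w)) = 2 ^^^ ((w ^^^ app a w) ^^^ omv (w ^^^ app a w)) ∧
    qv 255 (1 ^^^ ((w ^^^ app a w) ^^^ omv (w ^^^ app a w))) = true ∧
    omv (1 ^^^ ((w ^^^ app a w) ^^^ omv (w ^^^ app a w))) = 2 ^^^ (w ^^^ app a w) := by
  have h := centre_ok
  rw [List.all_eq_true] at h
  have h' := h a (mem_inv1 ha h2 hne h1)
  simp only [hT, Bool.not_true, Bool.false_or, List.all_eq_true] at h'
  have h'' := h' w (List.mem_range.2 hw)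
  simp only [centreOK, Bool.or_eq_true, Bool.and_eq_true, Nat.beq_eq] at h''
  rcases h'' with e | ⟨⟨⟨⟨⟨e1, e2⟩, e3⟩, e4⟩, e5⟩, e6⟩
  · exact absurd e hc
  · exact ⟨e1, e2, e3, e4, e5, e6⟩

end Cfsg.Agent.U62Three.C.Code
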